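import Cfsg.Agent.Lib.ConjFunctor.Reduce
import Cfsg.Agent.Lib.PGroups.Omega
import Cfsg.Prelude.Def_TwoFusion
import Cfsg.Prelude.Def_LocalEven

/-!
# Control of fusion by the normalizer of a subgroup attached to a strongly closed subgroup

For an equivariant assignment `E ↦ F E ≤ E` which is normal in constrained groups for every strongly closed
`E`, the normalizer of `F D` controls strong fusion for a strongly closed `D`: from the local hypothesis on
all normalizers of fully normalized subgroups, or by induction over sections.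
-/

set_option autoImplicit false
set_option linter.unusedSectionVars false

open Cfsg
open Cfsg.Agent.Lib.Fusion.Alperin
open Cfsg.Agent.Lib.ConjFunctor.Basic
open Cfsg.Agent.Lib.ConjFunctor.Reach
open Cfsg.Agent.Lib.ConjFunctor.Section

namespace Cfsg.Agent.Lib.LAEven57.ZJClosed

universe u

variable {p : ℕ}

/-- An assignment of a subgroup to each subgroup, commuting with injective homomorphisms. -/
structure EquiSub (p : ℕ) where
  F : ∀ (X : Type u) [Group X], Subgroup X → Subgroup X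
  map_inj : ∀ {X Y : Type u} [Group X] [Group Y] (f : X →* Y), Function.Injective f → ∀ E : Subgroup X,
    (F X E).map f = F Y (E.map f)
  ne_bot : ∀ {X : Type u} [Group X] [Finite X] (E : Subgroup X), IsPGroup p E → E ≠ ⊥ → F X E ≠ ⊥

variable (W : EquiSub.{u} p) {X Y : Type u} [Group X] [Group Y]

theorem EquiSub.eq_map (E : Subgroup X) : W.F X E = (W.F E ⊤).map E.subtype := by
  rw [W.map_inj _ E.subtype_injective, ← MonoidHom.range_eq_map, E.range_subtype]

theorem EquiSub.le (E : Subgroup X) : W.F X E ≤ E := by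
  rw [W.eq_map]; exact Subgroup.map_subtype_le _

theorem EquiSub.map_of_inf_ker (f : X →* Y) {E : Subgroup X} (h : E ⊓ f.ker = ⊥) :
    (W.F X E).map f = W.F Y (E.map f) := by
  have hinj : Function.Injective (f.comp E.subtype) := by
    refine (injective_iff_map_eq_one _).2 fun x hx => ?_
    have h1 : (x : X) ∈ E ⊓ f.ker := ⟨x.2, hx⟩
    rw [h, Subgroup.mem_bot] at h1
    exact Subtype.ext h1
  rw [W.eq_map, Subgroup.map_map, W.map_inj _ hinj]
  congr 1
  rw [← Subgroup.map_map, ← MonoidHom.range_eq_map, E.range_subtype]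

theorem EquiSub.conj (g : X) (E : Subgroup X) : conjS g (W.F X E) = W.F X (conjS g E) :=
  W.map_inj _ (MulAut.conj g).injective E

theorem EquiSub.normalizer_le (E : Subgroup X) :
    Subgroup.normalizer (E : Set X) ≤ Subgroup.normalizer (W.F X E : Set X) := fun n hn =>
  mem_normalizer_of_conjS_eq (by rw [W.conj, conjS_eq_of_mem_normalizer hn])

/-- Fusion in `T` by elements of `H` is realized in `H ⊓ N(F E)`. -/
def GoodIn (H T E : Subgroup X) : Prop :=
  ∀ (A : Set X) (h : X), h ∈ H → A ⊆ T → cimg h A ⊆ T →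
    ∃ n ∈ H, n ∈ Subgroup.normalizer (W.F X E : Set X) ∧ ∀ a ∈ A, n * a * n⁻¹ = h * a * h⁻¹

/-- Every strongly closed subgroup of every Sylow subgroup controls. -/
def SFc (X : Type u) [Group X] : Prop :=
  ∀ (S : Sylow p X) (D : Subgroup X), IsStronglyClosed D (S : Subgroup X) → GoodIn W ⊤ (S : Subgroup X) D

theorem goodIn_of_normal {T E : Subgroup X} (h : (W.F X E).Normal) : GoodIn W ⊤ T E :=
  fun _ g _ _ _ => ⟨g, trivial, by rw [Subgroup.normalizer_eq_top]; trivial, fun _ _ => rfl⟩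

theorem goodIn_bot {T : Subgroup X} : GoodIn W ⊤ T ⊥ :=
  goodIn_of_normal W (by rw [le_bot_iff.1 (W.le ⊥)]; infer_instance)

theorem closed_inf {P D T : Subgroup X} (hD : IsStronglyClosed D P) (hT : T ≤ P) :
    IsStronglyClosed (D ⊓ T) T :=
  ⟨inf_le_right, fun x hx g hg => ⟨hD.2 x hx.1 g (hT hg), hg⟩⟩

theorem conj_closed [Finite X] {P D : Subgroup X} (hD : IsStronglyClosed D P) {T : Subgroup X} (hT : T ≤ P)
    {n : X} (hn : n ∈ Subgroup.normalizer (T : Set X)) :
    n ∈ Subgroup.normalizer ((D ⊓ T : Subgroup X) : Set X) := by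
  refine mem_normalizer_of_forall fun x hx => ?_
  have h := (Subgroup.mem_normalizer_iff.1 hn x).1 hx.2
  exact ⟨hD.2 x hx.1 n (hT h), h⟩

theorem sylow_le_normalizer [Finite X] {P D : Subgroup X} (hD : IsStronglyClosed D P) :
    P ≤ Subgroup.normalizer (D : Set X) := fun s hs => by
  have := conj_closed hD le_rfl (Subgroup.le_normalizer hs)
  rwa [inf_eq_left.2 hD.1] at this

theorem sylow_le_normalizer_F [Finite X] {P D : Subgroup X} (hD : IsStronglyClosed D P) :
    P ≤ Subgroup.normalizer (W.F X D : Set X) :=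
  (sylow_le_normalizer hD).trans (W.normalizer_le D)

variable [hp : Fact p.Prime] [Finite X]

theorem GoodIn.subgroup {H T E : Subgroup X} (hT : T ≤ H) (hE : E ≤ H)
    (h : GoodIn W (⊤ : Subgroup H) (T.subgroupOf H) (E.subgroupOf H)) : GoodIn W H T E := by
  intro A g hg hA hgA
  obtain ⟨n, -, hn, he⟩ := h (H.subtype ⁻¹' A) ⟨g, hg⟩ trivial (fun a ha => hA ha)
    (by rintro _ ⟨a, ha, rfl⟩; exact hgA ⟨a, ha, rfl⟩)
  refine ⟨n, n.2, ?_, fun a ha => congrArg Subtype.val (he ⟨a, hT (hA ha)⟩ ha)⟩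
  have h1 := map_normalizer_le H.subtype _ (Subgroup.mem_map_of_mem _ hn)
  rwa [W.map_inj _ H.subtype_injective, Subgroup.map_subgroupOf_eq_of_le hE] at h1

theorem goodIn_of_sfc {P D : Subgroup X} (hD : IsStronglyClosed D P) {H T : Subgroup X}
    (hT : IsSyl p T H) (hTP : T ≤ P) (h : SFc W H) : GoodIn W H T (D ⊓ T) := by
  refine GoodIn.subgroup W hT.le (inf_le_right.trans hT.le) ?_
  have := h hT.toSylowOf ((D ⊓ T).subgroupOf H) (by
    rw [hT.coe_toSylowOf]
    exact ⟨fun x hx => hx.2, fun x hx g hg => ⟨hD.2 x hx.1 g (hTP hg), hg⟩⟩)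
  rwa [hT.coe_toSylowOf] at this

/-! ### From local control to control -/

/-- Local control at a family of subgroups containing those above `Z(S)` and closed under
`U ↦ (F (D ∩ N_S(U)))^k` suffices. -/
theorem good_of_local_adm (S : Sylow p X) {D : Subgroup X} (hD : IsStronglyClosed D (S : Subgroup X))
    (Adm : Subgroup X → Prop)
    (hbase : ∀ U : Subgroup X, U ≤ S →
      (S : Subgroup X) ⊓ Subgroup.centralizer ((S : Subgroup X) : Set X) ≤ U → Adm U)
    (hnext : ∀ (U : Subgroup X) (k : X), U ≤ S → Adm U →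
      Adm (conjS k (W.F X (D ⊓ ((S : Subgroup X) ⊓ Subgroup.normalizer (U : Set X))))))
    (hloc : ∀ U : Subgroup X, U ≤ S → U ≠ ⊥ → Adm U →
      IsSyl p ((S : Subgroup X) ⊓ Subgroup.normalizer (U : Set X)) (Subgroup.normalizer (U : Set X)) →
      GoodIn W (Subgroup.normalizer (U : Set X)) ((S : Subgroup X) ⊓ Subgroup.normalizer (U : Set X))
        (D ⊓ ((S : Subgroup X) ⊓ Subgroup.normalizer (U : Set X)))) :
    GoodIn W ⊤ (S : Subgroup X) D := by
  rcases eq_or_ne D ⊥ with rfl | hD0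
  · exact goodIn_bot W
  let Gd : Set X → X → Prop := fun A h =>
    ∃ n ∈ Subgroup.normalizer (W.F X D : Set X), ∀ a ∈ A, n * a * n⁻¹ = h * a * h⁻¹
  let L : Subgroup X → Prop := fun U => ∀ y ∈ Subgroup.normalizer (U : Set X), ∀ A : Set X,
    A ⊆ ((S : Subgroup X) ⊓ Subgroup.normalizer (U : Set X) : Subgroup X) →
    cimg y A ⊆ ((S : Subgroup X) ⊓ Subgroup.normalizer (U : Set X) : Subgroup X) → Gd A y
  -- a fusion map is good as soon as all large enough local ones are
  have hC : ∀ k : ℕ, (∀ U : Subgroup X, U ≤ S → U ≠ ⊥ → Adm U →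
      IsSyl p ((S : Subgroup X) ⊓ Subgroup.normalizer (U : Set X)) (Subgroup.normalizer (U : Set X)) →
      k ≤ Nat.card ((S : Subgroup X) ⊓ Subgroup.normalizer (U : Set X) : Subgroup X) → L U) →
      ∀ (A : Subgroup X) (g : X), A ≤ S → conjS g A ≤ S → k ≤ Nat.card A → Gd A g := by
    intro k hL
    suffices hC' : ∀ (j : ℕ) (A : Subgroup X) (g : X), Nat.card (S : Subgroup X) - Nat.card A = j → A ≤ S →
        conjS g A ≤ S → k ≤ Nat.card A → Gd A g from fun A g => hC' _ A g rfl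
    intro j
    induction j using Nat.strong_induction_on with
    | _ j ihj =>
    intro A g hj hA hgA hk
    subst hj
    have hch := alperin S A g hA hgA
    clear hgA
    induction hch with
    | @base A R n hR hAR hn =>
      rcases eq_or_ne R ⊥ with hR0 | hR0
      · refine ⟨1, one_mem _, fun a ha => ?_⟩
        have := hAR ha
        rw [hR0, Subgroup.mem_bot] at this
        simp [this]
      have hsyl := (isFullyNormalized_iff S.2).1 hR.2.1
      have hRT : R ≤ (S : Subgroup X) ⊓ Subgroup.normalizer (R : Set X) :=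
        le_inf hR.1 Subgroup.le_normalizer
      by_cases hZR : (S : Subgroup X) ⊓ Subgroup.centralizer ((S : Subgroup X) : Set X) ≤ R
      · refine hL R hR.1 hR0 (hbase R hR.1 hZR) hsyl
          (hk.trans (Subgroup.card_le_of_le (hAR.trans hRT))) n hn A
          (fun a ha => hRT (hAR ha)) ?_
        rintro _ ⟨a, ha, rfl⟩
        exact hRT ((Subgroup.mem_normalizer_iff.1 hn a).1 (hAR ha))
      · -- enlarge `R` by its centralizer in `S`
        obtain ⟨c, hc, m, hm, rfl⟩ := hsyl.frattini (N := Subgroup.centralizer (R : Set X))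
          (Subgroup.centralizer_le_normalizer _) (fun y hy => mem_normalizer_of_conjS_eq (by
            rw [conjS_centralizer, conjS_eq_of_mem_normalizer hy])) hn
        set R₁ := (S : Subgroup X) ⊓ Subgroup.normalizer (R : Set X) ⊓ Subgroup.centralizer (R : Set X)
          with hR₁
        set R' := R ⊔ R₁ with hR'
        have hlt : R < R' := by
          refine lt_of_le_of_ne le_sup_left fun e => hZR (le_trans ?_ (le_sup_right.trans e.ge))
          intro z hz
          have hzC : z ∈ Subgroup.centralizer (R : Set X) := Subgroup.centralizer_le hR.1 hz.2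
          exact ⟨⟨hz.1, Subgroup.centralizer_le_normalizer _ hzC⟩, hzC⟩
        have hR'S : R' ≤ S := sup_le hR.1 (inf_le_left.trans inf_le_left)
        have hm' : conjS m R' = R' := by
          rw [hR', conjS_sup, conjS_eq_of_mem_normalizer hm.1, conjS_eq_of_mem_normalizer hm.2]
        have hlt' : Nat.card A < Nat.card R' :=
          (Subgroup.card_le_of_le hAR).trans_lt (Nat.lt_of_not_ge fun h =>
            hlt.ne (Subgroup.eq_of_le_of_card_ge hlt.le h))
        have := Subgroup.card_le_of_le hR'S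
        obtain ⟨x, hx, hxe⟩ := ihj _ (by omega) R' m rfl hR'S (hm'.le.trans hR'S) (by omega)
        refine ⟨x, hx, fun a ha => ?_⟩
        have hma : m * a * m⁻¹ ∈ R := (Subgroup.mem_normalizer_iff.1 hm.1 a).1 (hAR ha)
        calc x * a * x⁻¹ = m * a * m⁻¹ := hxe a (le_sup_left (b := R₁) (hAR ha))
          _ = c * (m * a * m⁻¹) * c⁻¹ := by
              rw [← Subgroup.mem_centralizer_iff.1 hc _ hma, mul_inv_cancel_right]
          _ = c * m * a * (c * m)⁻¹ := by group
    | @comp A g h _ _ ih1 ih2 =>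
      obtain ⟨n₁, hn₁, e₁⟩ := ih1 hA hk ihj
      obtain ⟨n₂, hn₂, e₂⟩ := ih2 (FusionChain.le_and_conj_le ‹FusionChain p _ A g›).2 (by rwa [card_conjS])
        (by rwa [card_conjS])
      refine ⟨n₂ * n₁, mul_mem hn₂ hn₁, fun a ha => ?_⟩
      calc n₂ * n₁ * a * (n₂ * n₁)⁻¹ = n₂ * (g * a * g⁻¹) * n₂⁻¹ := by rw [← e₁ a ha]; group
        _ = h * (g * a * g⁻¹) * h⁻¹ := e₂ _ (conj_mem_conjS ha)
        _ = h * g * a * (h * g)⁻¹ := by group
  have key : ∀ (d : ℕ) (U : Subgroup X), U ≤ S → U ≠ ⊥ → Adm U →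
      IsSyl p ((S : Subgroup X) ⊓ Subgroup.normalizer (U : Set X)) (Subgroup.normalizer (U : Set X)) →
      Nat.card (S : Subgroup X) - Nat.card ((S : Subgroup X) ⊓ Subgroup.normalizer (U : Set X) : Subgroup X) = d →
      L U := by
    intro d
    induction d using Nat.strong_induction_on with
    | _ d ih =>
    intro U hU hU0 hAdm hsyl hd y hy A hA hyA
    set T := (S : Subgroup X) ⊓ Subgroup.normalizer (U : Set X) with hT
    obtain ⟨n, -, hnW, hne⟩ := hloc U hU hU0 hAdm hsyl A y hy hA hyA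
    set E := D ⊓ T with hE
    rcases eq_or_lt_of_le (inf_le_left : T ≤ (S : Subgroup X)) with hTS | hTS
    · refine ⟨n, ?_, hne⟩
      have : E = D := inf_eq_left.2 (hD.1.trans hTS.ge)
      rwa [this] at hnW
    have hE0 : E ≠ ⊥ := by
      intro e
      have hn : (D.subgroupOf (S : Subgroup X)).Normal :=
        (Subgroup.normal_subgroupOf_iff_le_normalizer hD.1).2 (sylow_le_normalizer hD)
      refine PGroups.normal_inf_center_ne_bot S.2 (D.subgroupOf (S : Subgroup X)) (fun e' => hD0 ?_) ?_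
      · exact le_bot_iff.1 (fun x hx => by
          have : (⟨x, hD.1 hx⟩ : (S : Subgroup X)) ∈ D.subgroupOf (S : Subgroup X) := hx
          rw [e', Subgroup.mem_bot] at this
          exact Subgroup.mem_bot.2 (congrArg Subtype.val this))
      · refine le_bot_iff.1 fun x hx => Subgroup.mem_bot.2 (Subtype.ext ?_)
        have hxT : (x : X) ∈ T := ⟨x.2, Subgroup.centralizer_le_normalizer _
          (Subgroup.mem_centralizer_iff.2 fun a ha =>
            congrArg Subtype.val (Subgroup.mem_center_iff.1 hx.2 ⟨a, hU ha⟩))⟩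
        have : (x : X) ∈ E := ⟨hx.1, hxT⟩
        rw [e, Subgroup.mem_bot] at this
        exact this
    set Z := W.F X E with hZ
    have hTp : IsPGroup p T := S.2.to_le inf_le_left
    have hZ0 : Z ≠ ⊥ := W.ne_bot E (hTp.to_le inf_le_right) hE0
    have hZS : Z ≤ S := ((W.le E).trans inf_le_right).trans inf_le_left
    have hTN : Subgroup.normalizer (T : Set X) ≤ Subgroup.normalizer (Z : Set X) := fun m hm =>
      W.normalizer_le E (conj_closed hD inf_le_left hm)
    have hTZ : T ≤ (S : Subgroup X) ⊓ Subgroup.normalizer (Z : Set X) :=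
      le_inf inf_le_left (Subgroup.le_normalizer.trans hTN)
    have hgrow : Nat.card T < Nat.card ((S : Subgroup X) ⊓ Subgroup.normalizer (Z : Set X) : Subgroup X) := by
      have h1 := lt_inf_normalizer S.2 hTS
      refine lt_of_lt_of_le ?_ (Subgroup.card_le_of_le (inf_le_inf_left _ hTN))
      exact Nat.lt_of_not_ge fun h => h1.ne (Subgroup.eq_of_le_of_card_ge h1.le h)
    obtain ⟨k, hk1, hk2, hk3⟩ := exists_fullySyl S Z hZS
    set Z' := conjS k Z with hZ'
    have hLbig : ∀ U : Subgroup X, U ≤ S → U ≠ ⊥ → Adm U →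
        IsSyl p ((S : Subgroup X) ⊓ Subgroup.normalizer (U : Set X)) (Subgroup.normalizer (U : Set X)) →
        Nat.card T + 1 ≤ Nat.card ((S : Subgroup X) ⊓ Subgroup.normalizer (U : Set X) : Subgroup X) → L U := by
      intro V hV hV0 hVa hVs hlt
      have := Subgroup.card_le_of_le (inf_le_left : (S : Subgroup X) ⊓ Subgroup.normalizer (V : Set X) ≤ S)
      exact ih _ (by omega) V hV hV0 hVa hVs rfl
    obtain ⟨q, hq, hqe⟩ := hC (Nat.card T + 1) hLbig _ k inf_le_left hk2 hgrow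
    have hk2' : conjS k ((S : Subgroup X) ⊓ Subgroup.normalizer (Z : Set X)) ≤
        (S : Subgroup X) ⊓ Subgroup.normalizer (Z' : Set X) := by
      refine le_inf hk2 ?_
      rw [hZ', ← conjS_normalizer]
      exact conjS_mono inf_le_right
    have hgrow' : Nat.card T + 1 ≤
        Nat.card ((S : Subgroup X) ⊓ Subgroup.normalizer (Z' : Set X) : Subgroup X) := by
      have := Subgroup.card_le_of_le hk2'
      rw [card_conjS] at this
      omega
    have hnk : k * n * k⁻¹ ∈ Subgroup.normalizer (Z' : Set X) := mem_normalizer_conjS hnW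
    have hsrc : ∀ a ∈ A, a ∈ (S : Subgroup X) ⊓ Subgroup.normalizer (Z : Set X) := fun a ha => hTZ (hA ha)
    have hdst : ∀ a ∈ A, n * a * n⁻¹ ∈ (S : Subgroup X) ⊓ Subgroup.normalizer (Z : Set X) := fun a ha => by
      rw [hne a ha]; exact hTZ (hyA (mem_cimg ha))
    have hsub1 : cimg k A ⊆ ((S : Subgroup X) ⊓ Subgroup.normalizer (Z' : Set X) : Subgroup X) := by
      rintro _ ⟨a, ha, rfl⟩; exact hk2' (conj_mem_conjS (hsrc a ha))
    have hsub2 : cimg (k * n * k⁻¹) (cimg k A) ⊆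
        ((S : Subgroup X) ⊓ Subgroup.normalizer (Z' : Set X) : Subgroup X) := by
      rintro _ ⟨_, ⟨a, ha, rfl⟩, rfl⟩
      show k * n * k⁻¹ * (k * a * k⁻¹) * (k * n * k⁻¹)⁻¹ ∈ _
      rw [show k * n * k⁻¹ * (k * a * k⁻¹) * (k * n * k⁻¹)⁻¹ = k * (n * a * n⁻¹) * k⁻¹ by group]
      exact hk2' (conj_mem_conjS (hdst a ha))
    obtain ⟨m, hm, hme⟩ := hLbig Z' hk1 (fun e => hZ0 (conjS_eq_bot_iff.1 e)) (hnext U k hU hAdm) hk3 hgrow' _ hnk _ hsub1 hsub2
    refine ⟨q⁻¹ * m * q, mul_mem (mul_mem (inv_mem hq) hm) hq, fun a ha => ?_⟩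
    calc q⁻¹ * m * q * a * (q⁻¹ * m * q)⁻¹ = q⁻¹ * (m * (q * a * q⁻¹) * m⁻¹) * q := by group
      _ = q⁻¹ * (k * (n * a * n⁻¹) * k⁻¹) * q := by
          rw [hqe a (hsrc a ha), hme _ ⟨a, ha, rfl⟩]; group
      _ = n * a * n⁻¹ := by rw [← hqe _ (hdst a ha)]; group
      _ = y * a * y⁻¹ := hne a ha
  intro A g _ hA hgA
  have hcl : Subgroup.closure A ≤ (S : Subgroup X) := (Subgroup.closure_le _).2 hA
  obtain ⟨n, hn, hne⟩ := hC 0 (fun U hU hU0 hAdm hsyl _ => key _ U hU hU0 hAdm hsyl rfl) (Subgroup.closure A) g hcl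
    (by rw [conjS, MonoidHom.map_closure]; exact (Subgroup.closure_le _).2 hgA) (Nat.zero_le _)
  exact ⟨n, trivial, hn, fun a ha => hne a (Subgroup.subset_closure ha)⟩

theorem good_of_local (S : Sylow p X) {D : Subgroup X} (hD : IsStronglyClosed D (S : Subgroup X))
    (hloc : ∀ U : Subgroup X, U ≤ S → U ≠ ⊥ →
      IsSyl p ((S : Subgroup X) ⊓ Subgroup.normalizer (U : Set X)) (Subgroup.normalizer (U : Set X)) →
      GoodIn W (Subgroup.normalizer (U : Set X)) ((S : Subgroup X) ⊓ Subgroup.normalizer (U : Set X))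
        (D ⊓ ((S : Subgroup X) ⊓ Subgroup.normalizer (U : Set X)))) :
    GoodIn W ⊤ (S : Subgroup X) D :=
  good_of_local_adm W S hD (fun _ => True) (fun _ _ _ => trivial) (fun _ _ _ _ => trivial)
    fun U hU hU0 _ => hloc U hU hU0

/-! ### Quotients -/

omit hp in
theorem closed_map [Fact p.Prime] (S : Sylow p X) {D : Subgroup X} (hD : IsStronglyClosed D (S : Subgroup X))
    (f : X →* Y) (hf : Function.Surjective f) :
    IsStronglyClosed (D.map f) ((S : Subgroup X).map f) := by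
  refine ⟨Subgroup.map_mono hD.1, ?_⟩
  rintro _ ⟨x, hx, rfl⟩ g' hg
  obtain ⟨g, rfl⟩ := hf g'
  have hz : g * x * g⁻¹ ∈ (S : Subgroup X) ⊔ f.ker := by
    rw [← Subgroup.comap_map_eq, Subgroup.mem_comap]
    simpa using hg
  have hzp : IsPGroup p (Subgroup.zpowers (g * x * g⁻¹)) := by
    have := ((S.2.to_le hD.1).to_le (Subgroup.zpowers_le.2 hx)).map (MulAut.conj g).toMonoidHom
    rwa [MonoidHom.map_zpowers] at this
  obtain ⟨k, hk, hkz⟩ := ((isSyl_top S).mono (le_sup_left : _ ≤ (S : Subgroup X) ⊔ f.ker) le_top).exists_conj_le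
    hzp (Subgroup.zpowers_le.2 hz)
  have hmem : k * (g * x * g⁻¹) * k⁻¹ ∈ (S : Subgroup X) := hkz (conj_mem_conjS (Subgroup.mem_zpowers _))
  have hd : k * g * x * (k * g)⁻¹ ∈ D := hD.2 x hx (k * g) (by simpa [mul_assoc] using hmem)
  have hk' : k ∈ (((S : Subgroup X) ⊔ f.ker : Subgroup X) : Set X) := hk
  rw [Subgroup.mul_normal] at hk'
  obtain ⟨s, hs, m, hm, rfl⟩ := hk'
  refine ⟨s⁻¹ * (s * m * g * x * (s * m * g)⁻¹) * s, ?_, ?_⟩
  · exact (Subgroup.mem_normalizer_iff''.1 (sylow_le_normalizer hD hs) _).1 hd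
  · have hm1 : f m = 1 := hm
    simp [map_mul, map_inv, hm1, mul_assoc]

/-- Passing a normal `p'`-subgroup. -/
theorem good_of_quotient (M : Subgroup X) [M.Normal] (hM : ¬ p ∣ Nat.card M) (S : Sylow p X)
    {D : Subgroup X} (hD : IsStronglyClosed D (S : Subgroup X))
    (h : GoodIn W ⊤ ((S : Subgroup X).map (QuotientGroup.mk' M)) (D.map (QuotientGroup.mk' M))) :
    GoodIn W ⊤ (S : Subgroup X) D := by
  intro A g _ hA hgA
  set π := QuotientGroup.mk' M with hπ
  have hSM := ConjFunctor.Steps.sylow_inf_eq_bot S hM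
  have hDM : D ⊓ π.ker = ⊥ := by
    rw [hπ, QuotientGroup.ker_mk', eq_bot_iff, ← hSM]; exact inf_le_inf_right _ hD.1
  have hcore : ∀ {a b : X}, a ∈ (S : Subgroup X) → b ∈ (S : Subgroup X) → π a = π b → a = b := by
    intro a b ha hb he
    have h1 : a⁻¹ * b ∈ (S : Subgroup X) ⊓ M :=
      Subgroup.mem_inf.2 ⟨mul_mem (inv_mem ha) hb, (QuotientGroup.eq).1 he⟩
    rw [hSM, Subgroup.mem_bot, inv_mul_eq_one] at h1
    exact h1
  obtain ⟨x, -, hx, hxe⟩ := h (π '' A) (π g) trivial (Set.image_mono hA)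
    (by rw [← image_cimg]; exact Set.image_mono hgA)
  rw [← W.map_of_inf_ker π hDM] at hx
  set Z := W.F X D with hZ
  obtain ⟨x₀, hx₀, rfl⟩ := ConjFunctor.Steps.exists_lift_normalizer M
    (S.2.to_le ((W.le D).trans hD.1)) hM hx
  set N := Subgroup.normalizer (Z : Set X) with hN
  have hSN : (S : Subgroup X) ≤ N := sylow_le_normalizer_F W hD
  set H₀ := (S : Subgroup X) ⊔ (N ⊓ M) with hH₀
  have hnorm : (S : Subgroup X) ≤ Subgroup.normalizer ((N ⊓ M : Subgroup X) : Set X) := by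
    intro s hs
    apply mem_normalizer_of_conjS_eq
    rw [conjS_inf, conjS_eq_of_mem_normalizer (Subgroup.le_normalizer (hSN hs)),
      conjS_eq_of_mem_normalizer (Subgroup.le_normalizer_of_normal (H := M) (K := ⊤) trivial)]
  have hBH : conjS x₀ (Subgroup.closure A) ≤ H₀ := by
    rw [conjS, MonoidHom.map_closure, Subgroup.closure_le]
    rintro _ ⟨a, ha, rfl⟩
    have hN' : x₀ * a * x₀⁻¹ ∈ N := mul_mem (mul_mem hx₀ (hSN (hA ha))) (inv_mem hx₀)
    have he : π (g * a * g⁻¹) = π (x₀ * a * x₀⁻¹) := by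
      rw [map_mul, map_mul, map_inv, map_mul, map_mul, map_inv, hxe _ ⟨a, ha, rfl⟩]
    obtain ⟨m, hm, hsm⟩ := (QuotientGroup.mk'_eq_mk' M).1 he
    have hs : g * a * g⁻¹ ∈ (S : Subgroup X) := hgA (mem_cimg ha)
    show x₀ * a * x₀⁻¹ ∈ H₀
    rw [← hsm] at hN' ⊢
    refine mul_mem (le_sup_left (a := (S : Subgroup X)) hs) (le_sup_right (a := (S : Subgroup X)) ⟨?_, hm⟩)
    have h3 := mul_mem (inv_mem (hSN hs)) hN'
    rwa [inv_mul_cancel_left] at h3
  obtain ⟨c, hc, hcB⟩ := ((isSyl_top S).mono (le_sup_left : _ ≤ H₀) le_top).exists_conj_le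
    ((S.2.to_le ((Subgroup.closure_le _).2 hA)).map _) hBH
  have hc' : c ∈ (H₀ : Set X) := hc
  rw [hH₀, Subgroup.coe_mul_of_left_le_normalizer_right _ _ hnorm] at hc'
  obtain ⟨s, hs, m, hm, rfl⟩ := hc'
  refine ⟨m * x₀, trivial, mul_mem hm.1 hx₀, fun a ha => hcore ?_ (hgA (mem_cimg ha)) ?_⟩
  · have h1 : s * m * (x₀ * a * x₀⁻¹) * (s * m)⁻¹ ∈ (S : Subgroup X) :=
      hcB (conj_mem_conjS (conj_mem_conjS (Subgroup.subset_closure ha)))
    have h2 := mul_mem (mul_mem (inv_mem hs) h1) hs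
    rwa [show s⁻¹ * (s * m * (x₀ * a * x₀⁻¹) * (s * m)⁻¹) * s = m * x₀ * a * (m * x₀)⁻¹ by group] at h2
  · have hm1 : π m = 1 := (QuotientGroup.eq_one_iff m).2 hm.2
    have e1 := hxe _ ⟨a, ha, rfl⟩
    simp only [map_mul, map_inv, hm1, one_mul] at e1 ⊢
    exact e1

/-! ### Induction over sections -/

theorem sfc_step (hsub : ∀ H : Subgroup X, H ≠ ⊤ → SFc W H)
    (hquot : ∀ (N : Subgroup X) [N.Normal], N ≠ ⊥ → SFc W (X ⧸ N))
    (hcon : Constrained p X → SFc W X) : SFc W X := by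
  intro S D hD
  by_cases hcore : pPrimeCore p X = ⊥
  swap
  · exact good_of_quotient W _ (Cores.not_dvd_card_pPrimeCore p) S hD
      (hquot _ hcore (S.mapSurjective (QuotientGroup.mk'_surjective _)) _
        (closed_map S hD _ (QuotientGroup.mk'_surjective _)))
  by_cases hc : Constrained p X
  · exact hcon hc S D hD
  by_cases hP1 : pCore p X = ⊥
  · exact good_of_local W S hD fun U hU hU0 hsyl => goodIn_of_sfc W hD hsyl inf_le_left
      (hsub _ (ConjFunctor.Reduce.normalizer_ne_top hP1 (S.2.to_le hU) hU0))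
  have := ConjFunctor.Reduce.centralizer_normal (pCore p X)
  set C := Subgroup.centralizer ((pCore p X : Subgroup X) : Set X) with hC
  have hN0 := ConjFunctor.Reduce.normalizer_inf_ne_top hcore hc S
  -- proper subgroups containing `S`
  have hprop : ∀ H : Subgroup X, H ≠ ⊤ → (S : Subgroup X) ≤ H → GoodIn W H (S : Subgroup X) D := by
    intro H hH hSH
    have := goodIn_of_sfc W hD ((isSyl_top S).mono hSH le_top) le_rfl (hsub H hH)
    rwa [inf_eq_left.2 hD.1] at this
  intro A h _ hA hhA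
  by_cases hSC : (S : Subgroup X) ⊔ C = ⊤
  swap
  · obtain ⟨c, hcC, n, hn, rfl, hnA⟩ := ConjFunctor.Steps.exists_decomp S (C := C) hA hhA
    obtain ⟨n₁, -, hn₁, e₁⟩ :=
      hprop _ hN0 (ConjFunctor.Reduce.sylow_le_normalizer_inf S C) A n hn hA hnA
    obtain ⟨n₂, -, hn₂, e₂⟩ := hprop _ hSC le_sup_left (cimg n A) c
      (le_sup_right (a := (S : Subgroup X)) hcC) hnA (by rw [← cimg_mul]; exact hhA)
    refine ⟨n₂ * n₁, trivial, mul_mem hn₂ hn₁, fun a ha => ?_⟩
    calc n₂ * n₁ * a * (n₂ * n₁)⁻¹ = n₂ * (n * a * n⁻¹) * n₂⁻¹ := by rw [← e₁ a ha]; group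
      _ = c * (n * a * n⁻¹) * c⁻¹ := e₂ _ (mem_cimg ha)
      _ = c * n * a * (c * n)⁻¹ := by group
  -- `X = S C`
  set P := pCore p X with hP
  set π := QuotientGroup.mk' P with hπ
  have hπs := QuotientGroup.mk'_surjective P
  have hPS : P ≤ (S : Subgroup X) := Cores.pCore_le_sylow S
  have hDbar := closed_map S hD π hπs
  rcases eq_or_ne (D.map π) ⊥ with hD1 | hD1
  · have hDP : D ≤ P := by
      rwa [Subgroup.map_eq_bot_iff, hπ, QuotientGroup.ker_mk'] at hD1
    have : D.Normal := ⟨fun x hx y => hD.2 x hx y (hPS ((pCore_normal p X).conj_mem _ (hDP hx) y))⟩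
    refine goodIn_of_normal W (Subgroup.normalizer_eq_top_iff.1 (top_le_iff.1 ?_)) A h trivial hA hhA
    rw [← Subgroup.normalizer_eq_top (H := D)]
    exact W.normalizer_le D
  -- the pull back of the control subgroup of the quotient
  set H₁ := (Subgroup.normalizer (W.F (X ⧸ P) (D.map π) : Set (X ⧸ P))).comap π with hH₁
  have hSH : (S : Subgroup X) ≤ H₁ := Subgroup.map_le_iff_le_comap.1 (sylow_le_normalizer_F W hDbar)
  have hH : H₁ ≠ ⊤ := by
    intro e
    refine ConjFunctor.Reduce.normalizer_ne_top (Cores.pCore_quotient_pCore p)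
      ((S.2.map π).to_le ((W.le _).trans hDbar.1)) (W.ne_bot _ ((S.2.map π).to_le hDbar.1) hD1) ?_
    rw [eq_top_iff, ← Subgroup.map_top_of_surjective π hπs, ← e]
    exact Subgroup.map_comap_le _ _
  set B := Subgroup.closure A ⊔ P with hB
  have hBS : B ≤ (S : Subgroup X) := sup_le ((Subgroup.closure_le _).2 hA) hPS
  have hconjP : ∀ y : X, conjS y P = P := fun y => conjS_eq_of_mem_normalizer
    (Subgroup.le_normalizer_of_normal (H := P) (K := ⊤) trivial)
  -- lifting a fusion map of `B` modulo `P`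
  have lift : ∀ g : X, conjS g B ≤ (S : Subgroup X) →
      ∃ y ∈ Subgroup.normalizer (W.F X D : Set X), conjS y B ≤ (S : Subgroup X) ∧
        ∀ b ∈ B, π (y * b * y⁻¹) = π (g * b * g⁻¹) := by
    intro g hg
    obtain ⟨x, -, hx, hxe⟩ := hquot _ hP1 (S.mapSurjective hπs) _ hDbar (π '' (B : Set X)) (π g) trivial
      (Set.image_mono hBS) (by
        rw [← image_cimg]
        exact Set.image_mono (cimg_subset_of_le Set.Subset.rfl hg))
    obtain ⟨x₀, rfl⟩ := hπs x
    have e0 : ∀ b ∈ B, π (x₀ * b * x₀⁻¹) = π (g * b * g⁻¹) := fun b hb => by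
      rw [map_mul, map_mul, map_inv, map_mul, map_mul, map_inv]; exact hxe _ ⟨b, hb, rfl⟩
    have hdst : ∀ b ∈ B, x₀ * b * x₀⁻¹ ∈ (S : Subgroup X) := by
      intro b hb
      have h3 : π (x₀ * b * x₀⁻¹) ∈ (S : Subgroup X).map π :=
        e0 b hb ▸ ⟨_, hg (conj_mem_conjS hb), rfl⟩
      rw [← Subgroup.mem_comap, Subgroup.comap_map_eq, hπ, QuotientGroup.ker_mk', sup_eq_left.2 hPS] at h3
      exact h3
    obtain ⟨y, -, hy, hye⟩ := hprop H₁ hH hSH (B : Set X) x₀ (Subgroup.mem_comap.2 hx) hBS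
      (by rintro _ ⟨b, hb, rfl⟩; exact hdst b hb)
    refine ⟨y, hy, ?_, fun b hb => by rw [hye b hb]; exact e0 b hb⟩
    rintro _ ⟨b, hb, rfl⟩
    show y * b * y⁻¹ ∈ (S : Subgroup X)
    rw [hye b hb]; exact hdst b hb
  have hhB : conjS h B ≤ (S : Subgroup X) := by
    rw [hB, conjS_sup, hconjP]
    refine sup_le ?_ hPS
    rw [conjS, MonoidHom.map_closure]
    exact (Subgroup.closure_le _).2 hhA
  obtain ⟨k, hkB, -, hfn⟩ := exists_fullySyl S B hBS
  obtain ⟨y, hy, -, hye⟩ := lift k hkB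
  obtain ⟨z, hz, -, hze⟩ := lift h hhB
  have hmk : ∀ {a b : X}, π a = π b → a⁻¹ * b ∈ P := fun he => (QuotientGroup.eq).1 he
  have hPk : P ≤ conjS k B := (hconjP k).ge.trans (conjS_mono le_sup_right)
  have hyB : conjS y B = conjS k B := by
    refine Subgroup.eq_of_le_of_card_ge ?_ (by rw [card_conjS, card_conjS])
    rintro _ ⟨b, hb, rfl⟩
    have h2 := mul_mem (conj_mem_conjS (g := k) hb) (inv_mem (hPk (hmk (hye b hb))))
    show y * b * y⁻¹ ∈ conjS k B
    rwa [show k * b * k⁻¹ * ((y * b * y⁻¹)⁻¹ * (k * b * k⁻¹))⁻¹ = y * b * y⁻¹ by group] at h2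
  set x := z⁻¹ * h with hx
  have hxB : ∀ b ∈ B, x * b * x⁻¹ * b⁻¹ ∈ P := by
    intro b hb
    refine (QuotientGroup.eq_one_iff _).1 ?_
    change π _ = 1
    have e := hze b hb
    simp only [map_mul, map_inv] at e
    simp only [hx, map_mul, map_inv]
    calc (π z)⁻¹ * π h * π b * ((π z)⁻¹ * π h)⁻¹ * (π b)⁻¹
        = (π z)⁻¹ * (π h * π b * (π h)⁻¹) * π z * (π b)⁻¹ := by group
      _ = 1 := by rw [← e]; group
  obtain ⟨q, hqS, hqe⟩ := ConjFunctor.Reduce.exists_sylow_action S hSC (B := conjS k B) hPk hkB hfn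
    (x := y * x * y⁻¹) (by
      intro b hb
      rw [← hyB, mem_conjS] at hb
      have h1 := (pCore_normal p X).conj_mem _ (hxB _ hb) y
      rwa [show y * (x * (y⁻¹ * b * y) * x⁻¹ * (y⁻¹ * b * y)⁻¹) * y⁻¹ =
        y * x * y⁻¹ * b * (y * x * y⁻¹)⁻¹ * b⁻¹ by group] at h1)
  refine ⟨z * y⁻¹ * q * y, trivial,
    mul_mem (mul_mem (mul_mem hz (inv_mem hy)) (sylow_le_normalizer_F W hD hqS)) hy, fun a ha => ?_⟩
  have haB : a ∈ B := le_sup_left (b := P) (Subgroup.subset_closure ha)
  calc z * y⁻¹ * q * y * a * (z * y⁻¹ * q * y)⁻¹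
      = z * y⁻¹ * (q * (y * a * y⁻¹) * q⁻¹) * (z * y⁻¹)⁻¹ := by group
    _ = z * y⁻¹ * (y * x * y⁻¹ * (y * a * y⁻¹) * (y * x * y⁻¹)⁻¹) * (z * y⁻¹)⁻¹ := by
        rw [hqe _ (hyB ▸ conj_mem_conjS haB)]
    _ = h * a * h⁻¹ := by rw [hx]; group

theorem sfc_main {G : Type u} [Group G] [Finite G]
    (hcon : ∀ (X : Type u) [Group X] [Finite X], IsSection X G → Constrained p X → SFc W X)
    (X : Type u) [Group X] [Finite X] (hX : IsSection X G) : SFc W X := by
  induction hn : Nat.card X using Nat.strong_induction_on generalizing X with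
  | _ n ih =>
    subst hn
    refine sfc_step W (fun H hH => ih _ (ConjFunctor.Reduce.card_subgroup_lt hH) H (hX.subgroup H) rfl)
      (fun N _ hN => ih _ (ConjFunctor.Reduce.card_quotient_lt hN) _
        (hX.quotient (QuotientGroup.mk' N) (QuotientGroup.mk'_surjective N)) rfl)
      (hcon X hX)

/-- Quadratic stability of normal `p`-subgroups of a quotient by a normal `p'`-subgroup. -/
theorem stableOn_quotient (hst : IsNormalizerPStable p X) (M : Subgroup X) [M.Normal]
    (hM : ¬ p ∣ Nat.card M) (V : Subgroup (X ⧸ M)) [V.Normal] (hV : IsPGroup p V) :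
    IsPStableOn p V := by
  intro a ha
  set π := QuotientGroup.mk' M with hπ
  have hπs := QuotientGroup.mk'_surjective M
  obtain ⟨T, hT⟩ := exists_isSyl (p := p) (V.comap π)
  have hTV : T.map π = V := by
    refine le_antisymm (Subgroup.map_le_iff_le_comap.2 hT.le) ?_
    intro v hv
    obtain ⟨x, rfl⟩ := hπs v
    have hxTM : x ∈ T ⊔ M := by
      have hTM : ((T ⊔ M : Subgroup X)).relIndex (V.comap π) = 1 := by
        have hMV : M ≤ V.comap π := fun m hm => by
          rw [Subgroup.mem_comap, show π m = 1 from (QuotientGroup.eq_one_iff m).2 hm]; exact one_mem V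
        have h1 : (T ⊔ M).relIndex (V.comap π) ∣ T.relIndex (V.comap π) :=
          Subgroup.relIndex_dvd_of_le_left _ le_sup_left
        have h2 : (T ⊔ M).relIndex (V.comap π) ∣ M.relIndex (V.comap π) :=
          Subgroup.relIndex_dvd_of_le_left _ le_sup_right
        obtain ⟨i, hi⟩ := IsPGroup.iff_card.1 hV
        have h3 : M.relIndex (V.comap π) = p ^ i := by
          have h4 := Subgroup.relIndex_comap (⊥ : Subgroup (X ⧸ M)) π (V.comap π)
          rw [Subgroup.map_comap_eq_self_of_surjective hπs, Subgroup.relIndex_bot_left, hi,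
            MonoidHom.comap_bot, hπ, QuotientGroup.ker_mk'] at h4
          exact h4
        obtain ⟨j, -, hj⟩ := (Nat.dvd_prime_pow hp.out).1 (h3 ▸ h2)
        rcases Nat.eq_zero_or_pos j with hj0 | hj0
        · simpa [hj0] using hj
        · exact absurd ((dvd_pow_self p hj0.ne').trans (hj ▸ h1)) hT.nd
      exact Subgroup.relIndex_eq_one.1 hTM (Subgroup.mem_comap.2 hv)
    rw [← QuotientGroup.ker_mk' M, ← hπ, ← Subgroup.comap_map_eq] at hxTM
    exact hxTM
  subst hTV
  have hTp := hT.isP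
  have hTM : T ⊓ M = ⊥ := (Transfer.PResidual.disjoint_of_not_dvd hM hTp).symm.eq_bot
  have hlift : ∀ b : X ⧸ M, ∃ y ∈ Subgroup.normalizer (T : Set X), π y = b := fun b =>
    ConjFunctor.Steps.exists_lift_normalizer M hTp hM (by rw [Subgroup.normalizer_eq_top]; trivial)
  obtain ⟨y, hy, rfl⟩ := hlift a
  set N := Subgroup.normalizer (T : Set X) with hN
  set C := Subgroup.centralizer ((T.map π : Subgroup (X ⧸ M)) : Set (X ⧸ M)) with hC
  have hTy : ⁅T, Subgroup.zpowers y⁆ ≤ T := Subgroup.commutator_le.2 fun t ht s hs => by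
    rw [commutatorElement_def, mul_assoc t, mul_assoc t]
    exact mul_mem ht ((Subgroup.mem_normalizer_iff.1 (Subgroup.zpowers_le.2 hy hs) _).1 (inv_mem ht))
  have hquad : ⁅⁅T, Subgroup.zpowers y⁆, Subgroup.zpowers y⁆ = ⊥ := by
    rw [eq_bot_iff, ← hTM]
    refine le_inf ((Subgroup.commutator_mono hTy le_rfl).trans hTy) ?_
    rw [← QuotientGroup.ker_mk' M, ← Subgroup.map_eq_bot_iff, ← hπ, Subgroup.map_commutator,
      Subgroup.map_commutator, MonoidHom.map_zpowers]
    exact ha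
  have key := hst T hTp y hy hquad
  set CN := (Subgroup.centralizer (T : Set X)).subgroupOf N with hCN
  let f : N →* (X ⧸ M) ⧸ C := ((QuotientGroup.mk' C).comp π).comp N.subtype
  have hker : CN ≤ f.ker := by
    intro c hc
    refine (QuotientGroup.eq_one_iff _).2 ?_
    rintro _ ⟨t, ht, rfl⟩
    have h1 := congrArg π (Subgroup.mem_centralizer_iff.1 hc t ht)
    rwa [map_mul, map_mul] at h1
  have hfs : Function.Surjective (QuotientGroup.lift CN f hker) := by
    intro b
    obtain ⟨b, rfl⟩ := QuotientGroup.mk'_surjective C b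
    obtain ⟨y', hy', rfl⟩ := hlift b
    exact ⟨QuotientGroup.mk ⟨y', hy'⟩, rfl⟩
  exact Cores.map_pCore_le _ hfs ⟨_, key, rfl⟩

end Cfsg.Agent.Lib.LAEven57.ZJClosed
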