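import Cfsg.Agent.Lib.LAEven57.ZJClosed.Normal
import Cfsg.Agent.Lib.LAEven57.ZJClosed.Control
import Cfsg.Agent.Lib.ZJ.Control
import Cfsg.Agent.Lib.PSolvable.HallHigman
import Cfsg.Agent.S3836

/-!
# `N(Z(J(D)))` and `N(Ω₁(Z(J_e(D))))` control strong fusion, `D` strongly closed
-/

set_option autoImplicit false
set_option linter.unusedSectionVars false

open Cfsg
open Cfsg.Agent.Lib.ConjFunctor.Basic
open Cfsg.Agent.Lib.ConjFunctor.Section

namespace Cfsg.Agent.Lib.LAEven57.ZJClosed

universe u

variable {p : ℕ} [hp : Fact p.Prime]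

/-- `E ↦ Z(J(E))`, abelian version. -/
def zjASub (p : ℕ) [Fact p.Prime] : EquiSub.{u} p where
  F X _ E := Cfsg.centerThompsonAOf E
  map_inj f hf E := ZJ.map_centerThompsonAOf f hf E
  ne_bot {X _ _} E hE hE0 h := by
    have : Nontrivial E := (Subgroup.nontrivial_iff_ne_bot _).2 hE0
    refine (ZJ.isCharPFunctor_zjA.{u} p).1 E hE this ?_
    rw [← Subgroup.map_eq_bot_iff_of_injective _ E.subtype_injective, ← h, ← ZJ.inducedFunctor_zjA]
    rfl

/-- `E ↦ Ω₁(Z(J(E)))`, elementary version. -/
def omegaZjESub (p : ℕ) [Fact p.Prime] : EquiSub.{u} p where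
  F X _ E := Cfsg.omegaOne p (Cfsg.centerThompsonOf p E)
  map_inj f hf E := by rw [PGroups.map_omegaOne_of_injective f hf, PGroups.map_centerThompsonOf f hf]
  ne_bot {X _ _} E hE hE0 := by
    refine PGroups.omegaOne_ne_bot (hE.to_le (PGroups.centerThompsonOf_le p E)) fun h => ?_
    have : Nontrivial E := (Subgroup.nontrivial_iff_ne_bot _).2 hE0
    refine (ZJ.isCharPFunctor_zjE.{u} p).1 E hE this ?_
    rw [← Subgroup.map_eq_bot_iff_of_injective _ E.subtype_injective, ← h, ← ZJ.inducedFunctor_zjE]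
    rfl

/-- The assignment is normal in constrained stable groups. -/
def IsZJ (W : EquiSub.{u} p) : Prop :=
  ∀ (X : Type u) [Group X] [Finite X], Constrained p X →
    (∀ (P : Subgroup X) [P.Normal], IsPGroup p P → Cfsg.IsPStableOn p P) →
    ∀ (S : Sylow p X) (D : Subgroup X), IsStronglyClosed D (S : Subgroup X) → (W.F X D).Normal

theorem isZJ_zjA (hp2 : p ≠ 2) : IsZJ (zjASub.{u} p) := fun _ _ _ hc hst S _ hD =>
  centerThompsonAOf_normal hp2 hc hst S hD

theorem isZJ_omegaZjE (hp2 : p ≠ 2) : IsZJ (omegaZjESub.{u} p) := fun _ _ _ hc hst S _ hD =>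
  @PGroups.omegaOne_normal _ _ p _ (centerThompsonOf_normal hp2 hc hst S hD)

theorem stableOn_of_normalizer {X : Type u} [Group X] [Finite X] (hst : IsNormalizerPStable p X)
    (V : Subgroup X) [V.Normal] (hV : IsPGroup p V) : IsPStableOn p V := by
  intro a ha
  have hall : ∀ b : X, b ∈ Subgroup.normalizer (V : Set X) := fun b => by
    rw [Subgroup.normalizer_eq_top]; trivial
  have key := hst V hV a (hall a) ha
  set N := Subgroup.normalizer (V : Set X)
  set C := Subgroup.centralizer (V : Set X)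
  let f : N →* X ⧸ C := (QuotientGroup.mk' C).comp N.subtype
  have hker : C.subgroupOf N ≤ f.ker := fun c hc => (QuotientGroup.eq_one_iff _).2 hc
  have hfs : Function.Surjective (QuotientGroup.lift (C.subgroupOf N) f hker) := by
    intro b
    obtain ⟨b, rfl⟩ := QuotientGroup.mk'_surjective C b
    exact ⟨QuotientGroup.mk ⟨b, hall b⟩, rfl⟩
  exact Cores.map_pCore_le _ hfs ⟨_, key, rfl⟩

theorem sfc_of_pConstrained {W : EquiSub.{u} p} (hW : IsZJ W) {X : Type u} [Group X] [Finite X]
    (hst : IsNormalizerPStable p X) (hc : IsPConstrained p X) : SFc W X := fun S D hD =>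
  have hM := Cores.not_dvd_card_pPrimeCore (G := X) p
  good_of_quotient W _ hM S hD (goodIn_of_normal W (hW _ (PSolvable.isPConstrained_iff.1 hc)
    (fun V _ hV => stableOn_quotient hst _ hM V hV) (S.mapSurjective (QuotientGroup.mk'_surjective _)) _
    (closed_map S hD _ (QuotientGroup.mk'_surjective _))))

variable {G : Type u} [Group G] [Finite G]

/-- The form in which statements write control of strong fusion. -/
theorem controlsStrongFusionOf {W : EquiSub.{u} p} {P : Sylow p G} {D : Subgroup G}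
    (h : GoodIn W ⊤ (P : Subgroup G) D) {A : Set G} (hA : A ⊆ (P : Subgroup G)) :
    Cfsg.ControlsStrongFusionOf (Subgroup.normalizer (W.F G D : Set G)) (P : Subgroup G) A :=
  ⟨hA, fun g hg => by
    obtain ⟨n, -, hn, he⟩ := h A g trivial hA hg
    exact ⟨n, hn, fun a ha => (he a ha).symm⟩⟩

/-- Control from `p`-constraint of the local subgroups. -/
theorem good_of_constrained_locals {W : EquiSub.{u} p} (hW : IsZJ W) (hst : IsNormalizerPStable p G)
    (P : Sylow p G) (hc : ∀ U : Subgroup G, U ≤ (P : Subgroup G) → U ≠ ⊥ →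
      IsPConstrained p ↥(Subgroup.normalizer (U : Set G)))
    {D : Subgroup G} (hD : IsStronglyClosed D (P : Subgroup G)) : GoodIn W ⊤ (P : Subgroup G) D :=
  good_of_local W P hD fun U hU hU0 hsyl => goodIn_of_sfc W hD hsyl inf_le_left
    (sfc_of_pConstrained hW (Cfsg.Agent.S3836.result hst _) (hc U hU hU0))

/-- Control from stability of all constrained sections. -/
theorem good_of_stable_sections {W : EquiSub.{u} p} (hW : IsZJ W)
    (hst : ∀ (K R : Subgroup G) [(R.subgroupOf K).Normal], Constrained p (↥K ⧸ R.subgroupOf K) →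
      IsNormalizerPStable p (↥K ⧸ R.subgroupOf K))
    (P : Sylow p G) {D : Subgroup G} (hD : IsStronglyClosed D (P : Subgroup G)) :
    GoodIn W ⊤ (P : Subgroup G) D := by
  refine sfc_main W (fun X _ _ hX hc S E hE => ?_) G (IsSection.refl G) P D hD
  obtain ⟨K, R, hn, ⟨e⟩⟩ := hX.exists_iso
  have hcY := constrained_congr e.symm hc
  let S' : Sylow p (↥K ⧸ R.subgroupOf K) := S.mapSurjective (f := e.symm.toMonoidHom) e.symm.surjective
  have := hW _ hcY (fun V _ hV => stableOn_of_normalizer (hst K R hcY) V hV) S' _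
    (closed_map S hE e.symm.toMonoidHom e.symm.surjective)
  have h2 := Subgroup.Normal.map this e.toMonoidHom e.surjective
  rw [W.map_inj _ e.injective, Subgroup.map_map] at h2
  refine goodIn_of_normal W ?_
  convert h2
  ext x
  simp

end Cfsg.Agent.Lib.LAEven57.ZJClosed
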