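import Cfsg.Agent.Lib.LAEven57.ZJClosed.Inst
import Cfsg.Agent.Lib.Frobenius.PComplement
import Cfsg.Agent.Lib.Coprime.Glauberman

/-!
# Normal `p`-complements from `N(Z(J(D)))`, `D` strongly closed

The argument of `Lib.ZJ.PComplement` for an assignment on strongly closed subgroups.
-/

set_option autoImplicit false
set_option linter.unusedSectionVars false

namespace Cfsg.Agent.Lib.LAEven57.ZJClosed.PComplement

open Subgroup Cfsg
open Cfsg.Agent.Lib.ZJ
open Cfsg.Agent.Lib.Transfer.PResidual
open Cfsg.Agent.Lib.Frobenius.PComplement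
open Cfsg.Agent.Lib.ConjFunctor
open Cfsg.Agent.Lib.LAEven57.ZJClosed

universe u

variable {p : ℕ} [hp : Fact p.Prime]

/-- The criterion in a group. -/
def Crit (W : EquiSub.{u} p) (X : Type u) [Group X] : Prop :=
  ∀ (S : Sylow p X) (E : Subgroup X), IsStronglyClosed E (S : Subgroup X) →
    Cfsg.HasNormalPComplement p (normalizer (W.F X E : Set X)) → Cfsg.HasNormalPComplement p X

/-- The inductive step. -/
theorem step {G : Type u} [Group G] [Finite G] (hp2 : p ≠ 2) (W : EquiSub.{u} p) (hW : IsZJ W)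
    (P : Sylow p G) {D : Subgroup G} (hDc : IsStronglyClosed D (P : Subgroup G))
    (hP : Cfsg.HasNormalPComplement p (normalizer (W.F G D : Set G)))
    (hsub : ∀ H : Subgroup G, H ≠ ⊤ → Crit W H)
    (hquot : ∀ (N : Subgroup G) [N.Normal], N ≠ ⊥ → Crit W (G ⧸ N)) :
    Cfsg.HasNormalPComplement p G := by
  classical
  by_contra hG
  have hDp : IsPGroup p D := P.2.to_le hDc.1
  -- `D` is not normal
  have hDn : ¬ D.Normal := fun hn => hG (hnpc_of_top_le (by
    rw [← Subgroup.normalizer_eq_top_iff.2 hn]; exact W.normalizer_le D) hP)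
  -- proper overgroups of `P`
  have hover : ∀ L : Subgroup G, (P : Subgroup G) ≤ L → L ≠ ⊤ →
      Cfsg.HasNormalPComplement p L := by
    intro L hPL hL
    refine hsub L hL (P.subtype hPL) (D.subgroupOf L) ?_ (hnpc_of_map_le L.subtype L.subtype_injective ?_ hP)
    · rw [Sylow.coe_subtype]
      exact ⟨fun x hx => hDc.1 hx, fun x hx g hg => hDc.2 x hx g hg⟩
    · refine (Section.map_normalizer_le L.subtype _).trans (le_of_eq ?_)
      rw [W.map_inj _ L.subtype_injective, Subgroup.map_subgroupOf_eq_of_le (hDc.1.trans hPL)]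
  -- no normal `p'`-subgroup
  have hO' : Cfsg.pPrimeCore p G = ⊥ := by
    by_contra hne
    apply hG
    set M := Cfsg.pPrimeCore p G
    set f := QuotientGroup.mk' M
    have hM : ¬ p ∣ Nat.card M := Cores.not_dvd_card_pPrimeCore p
    have hfs := QuotientGroup.mk'_surjective M
    refine hasNormalPComplement_of_quotient_pPrime hM
      (hquot M hne (P.mapSurjective hfs) (D.map f) (closed_map P hDc f hfs) ?_)
    have hinj : D ⊓ f.ker = ⊥ := by
      rw [QuotientGroup.ker_mk', eq_bot_iff]
      intro x hx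
      exact Subgroup.mem_bot.mpr
        (Subgroup.disjoint_def.mp (disjoint_of_not_dvd hM P.2) hx.2 (hDc.1 hx.1))
    have hkerM : ¬ p ∣ Nat.card f.ker := by rwa [QuotientGroup.ker_mk']
    rw [← W.map_of_inf_ker f hinj]
    refine hnpc_map f (le_of_eq ?_) hP
    rw [Balance.map_normalizer_eq hfs hkerM (hDp.to_le (W.le D))]
  -- the p-core is nontrivial
  have hP0 : (P : Subgroup G) ≠ ⊥ := fun h => hDn (by
    rw [le_bot_iff.1 (hDc.1.trans h.le)]; infer_instance)
  have hQ1 : Cfsg.pCore p G ≠ ⊥ := by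
    intro h
    apply hG
    refine hasNormalPComplement_of_thompson hp2 P ⟨hover _ ?_ ?_, hover _ ?_ ?_⟩
    · exact le_normalizer.trans (PGroups.normalizer_le_normalizer_thompson _)
    · intro ht
      have := Subgroup.normalizer_eq_top_iff.mp ht
      exact thompsonSubgroupOf_ne_bot P.2 hP0 (le_bot_iff.mp (h ▸ Cores.le_pCore
        (P.2.to_le (PGroups.thompsonSubgroupOf_le p _))))
    · intro x hx
      exact Subgroup.mem_centralizer_iff.mpr fun z hz =>
        (Subgroup.mem_centralizer_iff.mp hz.2 x hx).symm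
    · intro ht
      have hn : ((P : Subgroup G) ⊓ centralizer ((P : Subgroup G) : Set G)).Normal :=
        ⟨fun z hz g => by
          have : g ∈ centralizer (((P : Subgroup G) ⊓ centralizer ((P : Subgroup G) : Set G) :
              Subgroup G) : Set G) := ht.ge (Subgroup.mem_top g)
          rwa [← Subgroup.mem_centralizer_iff.mp this z hz, mul_inv_cancel_right]⟩
      exact inf_centralizer_ne_bot P.2 hP0
        (le_bot_iff.mp (h ▸ Cores.le_pCore (P.2.to_le inf_le_left)))
  set Q := Cfsg.pCore p G with hQdef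
  have hQp : IsPGroup p Q := Cores.pCore_isPGroup p
  have hQP : Q ≤ (P : Subgroup G) := Cores.pCore_le_sylow P
  have hDQ : ¬ D ≤ Q := fun h => hDn
    ⟨fun x hx g => hDc.2 x hx g (hQP ((pCore_normal p G).conj_mem _ (h hx) g))⟩
  have hQne : Q ≠ (P : Subgroup G) := fun h => hDQ (hDc.1.trans h.ge)
  set f := QuotientGroup.mk' Q
  have hfs : Function.Surjective f := QuotientGroup.mk'_surjective Q
  set Pb : Sylow p (G ⧸ Q) := P.mapSurjective hfs
  have hPb : (Pb : Subgroup (G ⧸ Q)) = (P : Subgroup G).map f := Sylow.coe_mapSurjective hfs P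
  have hPbne : (Pb : Subgroup (G ⧸ Q)) ≠ ⊥ := by
    rw [hPb, Ne, Subgroup.map_eq_bot_iff, QuotientGroup.ker_mk']
    exact fun h => hQne (le_antisymm hQP h)
  have hcore : Cfsg.pCore p (G ⧸ Q) = ⊥ := Cores.pCore_quotient_pCore p
  have hGb : Cfsg.HasNormalPComplement p (G ⧸ Q) := by
    have hDb : IsStronglyClosed (D.map f) (Pb : Subgroup (G ⧸ Q)) := hPb ▸ closed_map P hDc f hfs
    set N := normalizer (W.F (G ⧸ Q) (D.map f) : Set (G ⧸ Q)) with hN
    refine hquot Q hQ1 Pb (D.map f) hDb (hnpc_map f (A := N.comap f)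
      (by rw [Subgroup.map_comap_eq_self_of_surjective hfs]) (hover _ ?_ ?_))
    · rw [← Subgroup.map_le_iff_le_comap, ← hPb]
      exact sylow_le_normalizer_F W hDb
    · intro h
      have hNt : N = ⊤ := by
        rw [← Subgroup.map_comap_eq_self_of_surjective hfs N, h,
          Subgroup.map_top_of_surjective f hfs]
      have := Subgroup.normalizer_eq_top_iff.mp hNt
      have hD1 : D.map f ≠ ⊥ := fun e => hDQ (by
        rwa [Subgroup.map_eq_bot_iff, QuotientGroup.ker_mk'] at e)
      exact W.ne_bot _ (hDp.map f) hD1 (le_bot_iff.mp (hcore ▸ Cores.le_pCore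
        ((hDp.map f).to_le (W.le _))))
  set K := Cfsg.pResidual p (G ⧸ Q) with hKdef
  have hKp : ¬ p ∣ Nat.card K := hasNormalPComplement_iff_not_dvd.mp hGb
  have hsol : Cfsg.IsPSolvable p G :=
    PSolvable.isPSolvable_of_extension Q (PSolvable.isPSolvable_of_isPGroup hQp)
      (PSolvable.isPSolvable_of_extension K
        (PSolvable.isPSolvable_of_coprime (hp.out.coprime_iff_not_dvd.mpr hKp).symm)
        (PSolvable.isPSolvable_of_isPGroup isPGroup_quotient))
  have hCQ : centralizer (Q : Set G) ≤ Q := PSolvable.centralizer_pCore_le hsol hO'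
  -- a proper subgroup of `K` normalised by the Sylow subgroup is trivial
  have hY : ∀ Y : Subgroup (G ⧸ Q), Y ≤ K → (Pb : Subgroup (G ⧸ Q)) ⊔ Y ≠ ⊤ → Y = ⊥ := by
    intro Y hYK hne
    set L := ((Pb : Subgroup (G ⧸ Q)) ⊔ Y).comap f
    have hPL : (P : Subgroup G) ≤ L :=
      Subgroup.map_le_iff_le_comap.1 (hPb ▸ le_sup_left)
    have hLne : L ≠ ⊤ := fun h => hne (by
      rw [← Subgroup.map_comap_eq_self_of_surjective hfs ((Pb : Subgroup (G ⧸ Q)) ⊔ Y)]
      change L.map f = ⊤
      rw [h, Subgroup.map_top_of_surjective f hfs])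
    have hLc := hover L hPL hLne
    have hres : ∀ x : G, x ∈ L → (orderOf x).Coprime p → x = 1 := by
      intro x hx hxp
      have hxC : x ∈ centralizer (Q : Set G) := by
        have h1 := Transfer.Frobenius.mem_centralizer_of_hasNormalPComplement hLc
          (Q := Q.subgroupOf L) hQp.comap_subtype (g := ⟨x, hx⟩)
          (by rw [Subgroup.normalizer_eq_top]; trivial)
          (by rwa [Subgroup.orderOf_mk])
        exact fun y hy => congrArg Subtype.val
          (Subgroup.mem_centralizer_iff.mp h1 ⟨y, hPL (hQP hy)⟩ hy)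
      exact congrArg Subtype.val
        (eq_one_of_pGroup_of_coprime hQp (a := (⟨x, hCQ hxC⟩ : Q)) (by rwa [Subgroup.orderOf_mk]))
    have hLp : IsPGroup p L := by
      rw [IsPGroup.iff_orderOf]
      intro x
      obtain ⟨a, b, ha, hb, hab, -, ⟨k, hk⟩, hbp⟩ :=
        exists_pPart_mul_pPrimePart (p := p) x (isOfFinOrder_of_finite x)
      have hb1 : (b : G) = 1 := hres b b.2 (by rwa [Subgroup.orderOf_coe])
      rw [show b = 1 from Subtype.ext hb1, mul_one] at hab
      subst hab
      obtain ⟨i, -, hi⟩ := (Nat.dvd_prime_pow hp.out).mp (orderOf_dvd_of_pow_eq_one hk)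
      exact ⟨i, hi⟩
    have hYP : IsPGroup p Y := by
      refine (hLp.map f).to_le ?_
      show Y ≤ L.map f
      rw [Subgroup.map_comap_eq_self_of_surjective hfs]
      exact le_sup_right
    obtain ⟨k, hk⟩ := IsPGroup.iff_card.mp hYP
    rw [← Subgroup.card_eq_one, hk]
    rcases Nat.eq_zero_or_pos k with h0 | h0
    · rw [h0, pow_zero]
    · exact absurd ((hk ▸ dvd_pow_self p h0.ne').trans (Subgroup.card_dvd_of_le hYK)) hKp
  -- the `2`-elements of `K` commute
  obtain ⟨W₂, hW₂⟩ : ∃ W₂ : Sylow 2 K, (Pb : Subgroup (G ⧸ Q)) ≤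
      normalizer (((W₂ : Subgroup K).map K.subtype : Subgroup (G ⧸ Q)) : Set (G ⧸ Q)) := by
    refine Coprime.exists_invariant_sylow (by rw [Subgroup.normalizer_eq_top]; exact le_top)
      ?_ (Or.inl (Coprime.isSolvable_of_isPGroup Pb.2)) 2
    obtain ⟨k, hk⟩ := IsPGroup.iff_card.mp Pb.2
    rw [hk]
    exact (hp.out.coprime_iff_not_dvd.mpr hKp).pow_left k
  have hK2 : ∀ x ∈ K, ∀ y ∈ K, (∃ i, orderOf x = 2 ^ i) → (∃ i, orderOf y = 2 ^ i) →
      x * y = y * x := by
    set W' : Subgroup (G ⧸ Q) := (W₂ : Subgroup K).map K.subtype with hW'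
    have hW'K : W' ≤ K := Subgroup.map_subtype_le _
    by_cases htop : (Pb : Subgroup (G ⧸ Q)) ⊔ W' = ⊤
    · -- `K` is an abelian `2`-group
      have hWK : W' = K := by
        refine Subgroup.eq_of_le_of_card_ge hW'K (le_of_eq ?_)
        have hW'p : ¬ p ∣ Nat.card W' := fun h => hKp (h.trans (Subgroup.card_dvd_of_le hW'K))
        have h1 := Coprime.card_sup_of_disjoint hW₂ (disjoint_of_not_dvd hW'p Pb.2).symm
        rw [htop, Subgroup.card_top, ← (isComplement'_pResidual hGb Pb).card_mul_card,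
          mul_comm] at h1
        exact Nat.eq_of_mul_eq_mul_left Nat.card_pos h1
      have hK2g : IsPGroup 2 K := hWK ▸ W₂.2.map _
      have : Group.IsNilpotent K := hK2g.isNilpotent
      have hD : (Pb : Subgroup (G ⧸ Q)) ⊔ ⁅K, K⁆ ≠ ⊤ := by
        intro h
        have hne : K ≠ ⊥ := by
          intro h0
          rw [h0] at h hW'K
          rw [le_bot_iff.1 hW'K, sup_bot_eq] at htop
          have : (Pb : Subgroup (G ⧸ Q)).Normal := by rw [htop]; infer_instance
          exact hPbne (le_bot_iff.mp (hcore ▸ Cores.le_pCore Pb.2))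
        have hDp : ¬ p ∣ Nat.card ↥⁅K, K⁆ := fun h' =>
          hKp (h'.trans (Subgroup.card_dvd_of_le (Subgroup.commutator_le_self K)))
        have hDn : (Pb : Subgroup (G ⧸ Q)) ≤ normalizer ((⁅K, K⁆ : Subgroup (G ⧸ Q)) : Set (G ⧸ Q)) := by
          rw [Subgroup.normalizer_eq_top_iff.mpr inferInstance]; exact le_top
        have h1 := Coprime.card_sup_of_disjoint hDn (disjoint_of_not_dvd hDp Pb.2).symm
        rw [h, Subgroup.card_top, ← (isComplement'_pResidual hGb Pb).card_mul_card, mul_comm] at h1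
        have heq := Subgroup.eq_of_le_of_card_ge (Subgroup.commutator_le_self K)
          (Nat.eq_of_mul_eq_mul_left Nat.card_pos h1).le
        have : Group.IsPerfect K := Subgroup.isPerfect_iff.mpr heq
        have : Nontrivial K := (Subgroup.nontrivial_iff_ne_bot K).mpr hne
        exact Group.IsPerfect.not_isSolvable K inferInstance
      have hD0 := hY _ (Subgroup.commutator_le_self K) hD
      exact fun x hx y hy _ _ => commutatorElement_eq_one_iff_mul_comm.mp
        (Subgroup.mem_bot.mp (hD0 ▸ Subgroup.commutator_mem_commutator hx hy))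
    · -- `K` has odd order
      have hW0 := hY W' hW'K htop
      intro x hx y _ hxo _
      obtain ⟨i, hi⟩ := hxo
      have hodd : ¬ 2 ∣ Nat.card K := by
        intro h
        have h1 : (W₂ : Subgroup K) = ⊥ :=
          (Subgroup.map_eq_bot_iff_of_injective _ K.subtype_injective).1 hW0
        have h2 := W₂.not_dvd_index
        rw [h1, Subgroup.index_bot] at h2
        exact h2 h
      have : orderOf x = 1 := by
        rcases Nat.eq_zero_or_pos i with h0 | h0
        · rw [hi, h0, pow_zero]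
        · refine absurd (?_ : 2 ∣ Nat.card K) hodd
          have := orderOf_dvd_natCard (⟨x, hx⟩ : K)
          rw [Subgroup.orderOf_mk, hi] at this
          exact (dvd_pow_self 2 h0.ne').trans this
      rw [orderOf_eq_one_iff.1 this, one_mul, mul_one]
  -- no `SL(2,p)` section
  obtain ⟨T⟩ : Nonempty (Sylow 2 G) := inferInstance
  have hTc : IsMulCommutative (T : Subgroup G) := by
    refine mulComm_of_comm fun x hx y hy => ?_
    have h2 : ∀ t ∈ (T : Subgroup G), (∃ i, orderOf (f t) = 2 ^ i) ∧ f t ∈ K := by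
      intro t ht
      obtain ⟨i, hi⟩ := IsPGroup.iff_orderOf.1 T.2 ⟨t, ht⟩
      rw [Subgroup.orderOf_mk] at hi
      have hd : orderOf (f t) ∣ 2 ^ i := hi ▸ orderOf_map_dvd f t
      obtain ⟨j, -, hj⟩ := (Nat.dvd_prime_pow Nat.prime_two).1 hd
      refine ⟨⟨j, hj⟩, mem_pResidual ?_⟩
      rw [hj]
      exact ((Nat.coprime_primes Nat.prime_two hp.out).2 (Ne.symm hp2)).pow_left j
    have hc := hK2 _ (h2 x hx).2 _ (h2 y hy).2 (h2 x hx).1 (h2 y hy).1
    rw [← map_mul, ← map_mul] at hc
    have hmem : (x * y)⁻¹ * (y * x) ∈ Q := QuotientGroup.eq.1 hc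
    have hmemT : (x * y)⁻¹ * (y * x) ∈ (T : Subgroup G) :=
      mul_mem (inv_mem (mul_mem hx hy)) (mul_mem hy hx)
    have hdis : Disjoint Q (T : Subgroup G) :=
      disjoint_of_not_dvd (p := 2) (fun h => by
        obtain ⟨k, hk⟩ := IsPGroup.iff_card.mp hQp
        exact hp2 ((Nat.prime_dvd_prime_iff_eq Nat.prime_two hp.out).1
          (Nat.prime_two.dvd_of_dvd_pow (hk ▸ h))).symm) T.2
    exact inv_mul_eq_one.1 (Subgroup.disjoint_def.mp hdis hmem hmemT)
  have := hW G hCQ (ZJ.stable_of_noSLTwo hp2 (PLocal.noSLTwo_of_abelian_sylow_two hp2 T hTc)) P D hDc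
  refine hG (hnpc_of_top_le ?_ hP)
  rw [Subgroup.normalizer_eq_top]

/-- The criterion holds. -/
theorem crit (hp2 : p ≠ 2) (W : EquiSub.{u} p) (hW : IsZJ W) (G : Type u) [Group G] [Finite G] :
    Crit W G := by
  induction hc : Nat.card G using Nat.strong_induction_on generalizing G with
  | _ m ih =>
    subst hc
    intro P D hD hP
    exact step hp2 W hW P hD hP
      (fun H hH => ih _ (Reduce.card_subgroup_lt hH) H rfl)
      (fun N _ hN => ih _ (Reduce.card_quotient_lt hN) _ rfl)

end Cfsg.Agent.Lib.LAEven57.ZJClosed.PComplement
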